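import Mathlib
import Cfsg.Prelude.Def_Classical
import Cfsg.Prelude.Def_Sz
import Cfsg.Agent.LieRecognition.PSUThreeSylow
import Cfsg.Agent.LieRecognition.SzMatrix
import Cfsg.Agent.Classification.PSLTwoEvenSylow
import Cfsg.Agent.S1163

/-!
# Sylow 2-subgroups of `PSU₃(2^n)` and `Sz(q)`

`Ty S a b`: the group `S` is not commutative, has order `a`, exactly `b` elements with `x * x = 1`, and
these commute with each other. The Sylow 2-subgroups of `PSU₃(q)` and `Sz(q)`, `q = 2^n`, satisfy this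
with `(a, b) = (q ^ 3, q)` and `(q ^ 2, q)`.
-/

set_option autoImplicit false

namespace Cfsg.Agent.BenderType.Inv

open Cfsg Cfsg.Agent.LieRecognition Cfsg.Agent.LieRecognition.HermHeis Cfsg.Agent.LieRecognition.PSUThreeSylow
open Cfsg.Agent.LieRecognition.SzMatrix

/-- Not commutative, of order `a`, with exactly `b` elements of square one, which commute. -/
structure Ty (S : Type*) [Group S] (a b : ℕ) : Prop where
  card : Nat.card S = a
  inv : Nat.card {x : S // x * x = 1} = b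
  comm : ∀ x y : S, x * x = 1 → y * y = 1 → x * y = y * x
  ncomm : ∃ x y : S, x * y ≠ y * x

theorem Ty.congr {S T : Type*} [Group S] [Group T] {a b : ℕ} (h : Ty S a b) (e : S ≃* T) :
    Ty T a b where
  card := by rw [← Nat.card_congr e.toEquiv]; exact h.card
  inv := by
    rw [← h.inv]
    refine (Nat.card_congr (e.toEquiv.subtypeEquiv fun x => ?_)).symm
    show x * x = 1 ↔ e x * e x = 1
    rw [← map_mul, ← map_one e, e.injective.eq_iff]
  comm := by
    intro x y hx hy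
    apply e.symm.injective
    rw [map_mul, map_mul]
    exact h.comm _ _ (by rw [← map_mul, hx, map_one]) (by rw [← map_mul, hy, map_one])
  ncomm := by
    obtain ⟨x, y, hxy⟩ := h.ncomm
    refine ⟨e x, e y, fun h1 => hxy (e.injective ?_)⟩
    rw [map_mul, map_mul, h1]

theorem Ty.not_comm {S : Type*} [Group S] {a b : ℕ} (h : Ty S a b) : ¬ IsMulCommutative S := by
  intro hc
  obtain ⟨x, y, hxy⟩ := h.ncomm
  exact hxy (hc.is_comm.comm x y)

/-! ### The unitary groups -/

section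

variable {F : Type*} [Field F] [CharP F 2] {σ : F →+* F} [hσ : Fact (∀ x, σ (σ x) = x)]

theorem ty_heis [Finite F] {n : ℕ} (hn : 1 ≤ n) (hs : ∀ x, σ x = x ^ (2 ^ n))
    (hF : Nat.card F = (2 ^ n) ^ 2) : Ty (Heis σ) ((2 ^ n) ^ 3) (2 ^ n) := by
  have hq : 1 < 2 ^ n := Nat.one_lt_two_pow (by omega)
  refine ⟨card_heis hq hs hF, ?_, ?_, ?_⟩
  · rw [← card_center (σ := σ) hq hs hF]
    refine Nat.card_congr (Equiv.subtypeEquivRight fun x => ?_)
    rw [HermHeis.mul_self_eq_one_iff, mem_center_iff hq hs hF]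
  · intro x y hx hy
    rw [HermHeis.mul_self_eq_one_iff] at hx hy
    rw [commute_iff, hx, hy]
  · obtain ⟨c, hc⟩ := exists_not_fixed (σ := σ) hq hs hF
    obtain ⟨x, hx⟩ := exists_heis_a (σ := σ) hq hs hF 1
    obtain ⟨y, hy⟩ := exists_heis_a (σ := σ) hq hs hF c
    refine ⟨x, y, fun h => ?_⟩
    rw [commute_iff, hx, hy, map_one, one_mul, mul_one] at h
    exact hc h

end

theorem ty_psu {F : Type*} [Field F] [Fintype F] {n : ℕ} (hn : 1 ≤ n)
    (hF : Fintype.card F = (2 ^ n) ^ 2) (P : Sylow 2 (PSU 3 F (2 ^ n))) :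
    Ty (P : Subgroup (PSU 3 F (2 ^ n))) ((2 ^ n) ^ 3) (2 ^ n) := by
  have hF' : Nat.card F = (2 ^ n) ^ 2 := by rw [Nat.card_eq_fintype_card, hF]
  obtain ⟨h2, σ, hσ, hs, -, h⟩ := exists_heis_equiv F hn hF'
  obtain ⟨e⟩ := h P
  exact (ty_heis hn hs hF').congr e

/-! ### The Suzuki groups -/

theorem ty_unip {F : Type*} [Field F] [Finite F] {θ : F →+* F} {e : ℕ} (H : Good F θ e)
    (hθ : ∃ x : F, θ x ≠ x) : Ty H.unip (Nat.card F ^ 2) (Nat.card F) where
  card := H.card_unip
  inv := by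
    symm
    refine Nat.card_congr (Equiv.ofBijective
      (fun b => (⟨⟨H.u 0 b, H.u_mem_unip 0 b⟩, ?_⟩ : {x : H.unip // x * x = 1})) ⟨?_, ?_⟩)
    · apply Subtype.ext
      show H.u 0 b * H.u 0 b = 1
      rw [H.u_mul, H.add_self, zero_mul, add_zero, H.add_self, H.u_zero]
    · intro b c h
      have h1 : H.u 0 b = H.u 0 c := congrArg (fun x => ((x : {x : H.unip // x * x = 1}).1 : _)) h |>
        fun h => congrArg Subtype.val h
      exact (H.u_inj h1).2
    · rintro ⟨⟨g, hg⟩, h⟩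
      obtain ⟨a, b, rfl⟩ := (H.mem_unip_iff g).1 hg
      have h1 : H.u a b * H.u a b = 1 := congrArg Subtype.val h
      rw [H.u_mul, ← H.u_zero] at h1
      have h2 := (H.u_inj h1).2
      rw [H.add_self, zero_add, mul_eq_zero, map_eq_zero, or_self] at h2
      subst h2
      exact ⟨b, rfl⟩
  comm := by
    rintro ⟨x, hx⟩ ⟨y, hy⟩ h1 h2
    obtain ⟨a, b, rfl⟩ := (H.mem_unip_iff x).1 hx
    obtain ⟨c, d, rfl⟩ := (H.mem_unip_iff y).1 hy
    have h3 : H.u a b * H.u a b = 1 := congrArg Subtype.val h1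
    have h4 : H.u c d * H.u c d = 1 := congrArg Subtype.val h2
    rw [H.u_mul, ← H.u_zero] at h3 h4
    have h5 := (H.u_inj h3).2
    have h6 := (H.u_inj h4).2
    rw [H.add_self, zero_add, mul_eq_zero, map_eq_zero, or_self] at h5 h6
    subst h5
    subst h6
    apply Subtype.ext
    show H.u 0 b * H.u 0 d = H.u 0 d * H.u 0 b
    rw [H.u_mul, H.u_mul, zero_mul, add_comm b d]
  ncomm := by
    obtain ⟨x, hx⟩ := hθ
    refine ⟨⟨H.u 1 0, H.u_mem_unip 1 0⟩, ⟨H.u x 0, H.u_mem_unip x 0⟩, fun h => hx ?_⟩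
    have h1 : H.u 1 0 * H.u x 0 = H.u x 0 * H.u 1 0 := congrArg Subtype.val h
    rw [H.u_mul, H.u_mul] at h1
    have h2 := (H.u_inj h1).2
    rw [add_zero, zero_add, one_mul, zero_add, map_one, mul_one] at h2
    exact h2

theorem ty_sz {F : Type*} [Field F] [Fintype F] {m : ℕ} (hm : 1 ≤ m)
    (hF : Fintype.card F = 2 ^ (2 * m + 1)) (P : Sylow 2 ↥(Cfsg.Lie.Sz F (2 ^ (m + 1)))) :
    Ty (P : Subgroup ↥(Cfsg.Lie.Sz F (2 ^ (m + 1)))) ((2 ^ (2 * m + 1)) ^ 2) (2 ^ (2 * m + 1)) := by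
  have : Fact (Nat.Prime 2) := ⟨Nat.prime_two⟩
  have H := good hF
  have hcF : Nat.card F = 2 ^ (2 * m + 1) := by rw [Nat.card_eq_fintype_card, hF]
  have hθ : ∃ x : F, theta hF x ≠ x := by
    classical
    by_contra hcon
    push Not at hcon
    have h1 : ∀ x : F, x ^ 2 = x := fun x => by rw [← H.sq, hcon, hcon]
    have h2 : Fintype.card F ≤ 2 := by
      have h3 : Nat.card F ≤ Nat.card (Fin 2) := by
        refine Nat.card_le_card_of_injective (fun x : F => if x = 0 then (0 : Fin 2) else 1) ?_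
        intro x y hxy
        have h01 : ∀ z : F, z = 0 ∨ z = 1 := fun z => by
          have h4 := h1 z
          rw [_root_.sq] at h4
          rcases eq_or_ne z 0 with h | h
          · exact Or.inl h
          · exact Or.inr (mul_left_cancel₀ h (by rw [h4, mul_one]))
        rcases h01 x with rfl | rfl <;> rcases h01 y with rfl | rfl <;> simp_all
      simpa using h3
    rw [hF] at h2
    have h3 : 2 ^ 2 ≤ 2 ^ (2 * m + 1) := Nat.pow_le_pow_right (by norm_num) (by omega)
    omega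
  have hT := ty_unip H hθ
  rw [hcF] at hT
  have hodd : ¬ 2 ∣ H.unip.index := by
    have h1 := Subgroup.card_mul_index H.unip
    rw [(S1163.result hm hF).1, H.card_unip, hcF, mul_assoc] at h1
    have h2 := Nat.eq_of_mul_eq_mul_left (by positivity) h1
    rw [h2]
    intro h
    rcases (Nat.Prime.dvd_mul Nat.prime_two).mp h with h | h
    · have h1 : 1 ≤ 2 ^ (2 * m + 1) := Nat.one_le_two_pow
      have h2 : 2 ∣ 2 ^ (2 * m + 1) := dvd_pow_self 2 (by omega)
      omega
    · have h2 : 2 ∣ (2 ^ (2 * m + 1)) ^ 2 := dvd_pow (dvd_pow_self 2 (by omega)) (by omega)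
      omega
  have hpg : IsPGroup 2 H.unip := by
    apply IsPGroup.of_card (n := (2 * m + 1) * 2)
    rw [H.card_unip, hcF, ← pow_mul]
  exact hT.congr ((hpg.toSylow hodd).equiv P)

end Cfsg.Agent.BenderType.Inv
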