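import Mathlib
import Cfsg.Prelude.Def_TwoFusion
import Cfsg.Agent.BenderType.Classify
import Cfsg.Agent.S1169
import Cfsg.Agent.StrongEmb.Strong

/-!
# Simple groups with Sylow 2-subgroups of type `U₃(2^n)` or `Sz(q)`

The pieces of S1740 which follow from Goldschmidt's theorem S1169 and Bender's theorem.
-/

set_option autoImplicit false

namespace Cfsg.Agent.BenderType.U3Sz

open Cfsg Cfsg.Agent.BenderType.Inv Cfsg.Agent.BenderType.Classify

/-- A simple group whose Sylow 2-subgroups are not commutative and contain a nontrivial commutative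
strongly closed subgroup is `Sz(q)` or `PSU₃(q)`. -/
theorem concl_of_closed {G : Type*} [Group G] [Finite G] [IsSimpleGroup G] (S : Sylow 2 G)
    (hS : ¬ IsMulCommutative (S : Subgroup G)) {A : Subgroup G} (hA : A ≠ ⊥)
    (hAc : IsMulCommutative A) (hAs : IsStronglyClosed A (S : Subgroup G)) : Concl G := by
  rcases Cfsg.Agent.S1169.result S A hA hAc hAs with h | ⟨H, hH⟩
  · exact (hS h).elim
  · have hna : ∃ a b : G, a * b ≠ b * a := by
      by_contra hcon
      push Not at hcon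
      exact hS ⟨⟨fun a b => Subtype.ext (hcon a b)⟩⟩
    exact Cfsg.Agent.StrongEmb.Strong.result hna H hH

/-- Simple groups with Sylow 2-subgroups of type `U₃(2^n)`. -/
theorem u3 {G : Type*} [Group G] [Finite G] [IsSimpleGroup G] (S : Sylow 2 G) {n : ℕ} (hn : 1 ≤ n)
    {F : Type*} [Field F] [Fintype F] (hF : Fintype.card F = 4 ^ n)
    (P : Sylow 2 (Cfsg.PSU 3 F (2 ^ n)))
    (e : Nonempty (↥(S : Subgroup G) ≃* ↥(P : Subgroup (Cfsg.PSU 3 F (2 ^ n))))) :
    ∃ (F : Type) (_ : Field F) (_ : Fintype F), Fintype.card F = 4 ^ n ∧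
      Nonempty (G ≃* Cfsg.PSU 3 F (2 ^ n)) := by
  obtain ⟨e⟩ := e
  have hF' : Fintype.card F = (2 ^ n) ^ 2 := by
    rw [hF, ← pow_mul, mul_comm, pow_mul]
    norm_num
  have h := (ty_psu hn hF' P).congr e.symm
  obtain ⟨A, hA, hAc, hAs⟩ := exists_closed h (Nat.one_lt_two_pow (by omega))
  exact psu_of_concl (concl_of_closed S h.not_comm hA hAc hAs) S hn h

/-- Simple groups with Sylow 2-subgroups of type `Sz(q)`. -/
theorem sz {G : Type*} [Group G] [Finite G] [IsSimpleGroup G] (S : Sylow 2 G) {n m : ℕ}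
    (hm : 1 ≤ m) (hn : n = 2 * m + 1)
    {F : Type*} [Field F] [Fintype F] (hF : Fintype.card F = 2 ^ n)
    (P : Sylow 2 ↥(Cfsg.Lie.Sz F (2 ^ (m + 1))))
    (e : Nonempty (↥(S : Subgroup G) ≃* ↥(P : Subgroup ↥(Cfsg.Lie.Sz F (2 ^ (m + 1)))))) :
    ∃ m : ℕ, 1 ≤ m ∧ n = 2 * m + 1 ∧ ∃ (F : Type) (_ : Field F) (_ : Fintype F),
      Fintype.card F = 2 ^ n ∧ Nonempty (G ≃* ↥(Cfsg.Lie.Sz F (2 ^ (m + 1)))) := by
  obtain ⟨e⟩ := e
  subst hn
  have h := (ty_sz hm hF P).congr e.symm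
  obtain ⟨A, hA, hAc, hAs⟩ := exists_closed h (Nat.one_lt_two_pow (by omega))
  exact sz_of_concl (concl_of_closed S h.not_comm hA hAc hAs) S (by omega) h

end Cfsg.Agent.BenderType.U3Sz
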